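import Groth.Agent.H24Free.Local
import Groth.Agent.H24Free.Finite
import Groth.Agent.H24Punct.Finite
import Groth.Agent.H24Depth2.Main

/-!
# Algebraization of finite locally free formal modules for a principal ideal
-/

set_option autoImplicit false
set_option linter.style.haveILetI false

universe u

open CategoryTheory CategoryTheory.Limits AlgebraicGeometry Opposite

attribute [-instance] CategoryTheory.catToReflQuiver
attribute [-instance] Groth.Agent.H10Coh.hasFiniteBiproducts_modules

namespace Groth.Agent.H24Free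

attribute [local instance 10000] H10Coh.hasSheafifyAb H10Coh.hasWeakSheafifyAb H10Coh.hasExtAb H10Coh.enoughInjAb

open H24Formal2.Bridge (tU)

variable (A : Type u) [CommRing A] [IsNoetherianRing A] (a : Ideal A) (t : A)

local notation "U" => LocCoh.puncturedOpen A a

omit [IsNoetherianRing A] in
theorem exact_quotFree (hnzd : t ∈ nonZeroDivisors A) (n r : ℕ) :
    Function.Exact (t • LinearMap.id : quotFree A t (n + 2) r →ₗ[A] quotFree A t (n + 2) r)
      (t ^ (n + 1) • LinearMap.id : quotFree A t (n + 2) r →ₗ[A] quotFree A t (n + 2) r) := by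
  intro v
  constructor
  · intro hv
    choose x hx using fun i => Submodule.Quotient.mk_surjective _ (v i)
    have h : ∀ i, ∃ c, c * t = x i := fun i => by
      have h1 : t ^ (n + 1) • v i = 0 := congrFun hv i
      rw [← hx i, ← Submodule.Quotient.mk_smul, Submodule.Quotient.mk_eq_zero] at h1
      obtain ⟨c, hc⟩ := Ideal.mem_span_singleton'.1 h1
      refine ⟨c, (mul_cancel_left_mem_nonZeroDivisors (pow_mem hnzd (n + 1))).1 ?_⟩
      rw [smul_eq_mul] at hc
      rw [← hc, pow_succ]
      ring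
    choose c hc using h
    refine ⟨fun i => Submodule.Quotient.mk (c i), funext fun i => ?_⟩
    show t • Submodule.Quotient.mk (c i) = v i
    rw [← Submodule.Quotient.mk_smul, smul_eq_mul, mul_comm, hc, hx]
  · rintro ⟨c, rfl⟩
    funext i
    obtain ⟨x, hx⟩ := Submodule.Quotient.mk_surjective _ (c i)
    show t ^ (n + 1) • t • c i = 0
    rw [← hx, ← Submodule.Quotient.mk_smul, ← Submodule.Quotient.mk_smul, Submodule.Quotient.mk_eq_zero]
    exact Ideal.mem_span_singleton'.2 ⟨x, by simp only [smul_eq_mul]; ring⟩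

omit [IsNoetherianRing A] in
theorem smulMod_pair (M : (U : Scheme.{u}).Modules) {n : ℕ} (hM : Formal.KilledBy (Ideal.span {t} ^ (n + 2)) M) :
    Formal.smulMod A M t ≫ Formal.smulMod A M (t ^ (n + 1)) = 0 := by
  rw [H24Formal.smulMod_mul, ← pow_succ]
  exact hM _ (Ideal.pow_mem_pow (Ideal.mem_span_singleton_self t) _)

/-- The free modules over the thickenings have the expected annihilators. -/
theorem exact_smul_free (hnzd : t ∈ nonZeroDivisors A) (n r : ℕ)
    (w : Formal.smulMod A ((tU A U).obj (quotFree A t (n + 2) r)) t ≫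
      Formal.smulMod A ((tU A U).obj (quotFree A t (n + 2) r)) (t ^ (n + 1)) = 0) :
    (ShortComplex.mk _ _ w).Exact := by
  let P := quotFree A t (n + 2) r
  let S : ShortComplex (ModuleCat.{u} A) := ShortComplex.mk (ModuleCat.ofHom (t • LinearMap.id : P →ₗ[A] P))
    (ModuleCat.ofHom (t ^ (n + 1) • LinearMap.id : P →ₗ[A] P))
    (ModuleCat.hom_ext (LinearMap.ext fun v => (exact_quotFree A t hnzd n r).apply_apply_eq_zero v))
  have hS : S.Exact := (ShortComplex.moduleCat_exact_iff S).2 fun y hy => ((exact_quotFree A t hnzd n r) y).1 hy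
  haveI : PreservesFiniteLimits (tilde.functor (CommRingCat.of A)) :=
    @H10Coh.tilde_preservesFiniteLimits (CommRingCat.of A)
  haveI : PreservesFiniteLimits (Scheme.Modules.restrictFunctor (Scheme.Opens.ι U)) :=
    haveI : (Scheme.Modules.restrictFunctor (Scheme.Opens.ι U)).IsRightAdjoint :=
      (CxOX.extZeroAdj (Scheme.Opens.ι U)).isRightAdjoint
    inferInstance
  haveI : PreservesFiniteLimits (tU A U) := comp_preservesFiniteLimits _ _
  exact ShortComplex.exact_of_iso (S₁ := S.map (tU A U)) (ShortComplex.isoMk (Iso.refl _) (Iso.refl _) (Iso.refl _)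
    ((Category.id_comp _).trans ((H24Punct.map_smul_tU A a t P).symm.trans (Category.comp_id _).symm))
    ((Category.id_comp _).trans ((H24Punct.map_smul_tU A a (t ^ (n + 1)) P).symm.trans (Category.comp_id _).symm)))
    (hS.map (tU A U))

/-- The annihilator condition is local. -/
theorem exact_smul_locFree (hnzd : t ∈ nonZeroDivisors A) (n : ℕ) (M : (U : Scheme.{u}).Modules)
    (hfree : Formal2.IsFinLocFreeMod (Ideal.span {t}) (n + 2) M)
    (w : Formal.smulMod A M t ≫ Formal.smulMod A M (t ^ (n + 1)) = 0) : (ShortComplex.mk _ _ w).Exact := by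
  refine exact_of_cover _ fun x => ?_
  obtain ⟨V, r, hxV, ⟨e⟩⟩ := hfree x
  obtain ⟨θ⟩ := nonempty_modPow_freeMod_iso A a t hnzd (n + 2) r
  refine ⟨V, hxV, fun hF => ?_⟩
  let P := (tU A U).obj (quotFree A t (n + 2) r)
  let F := Scheme.Modules.restrictFunctor V.ι
  haveI := hF
  haveI : F.IsLeftAdjoint := (Scheme.Modules.restrictAdjunction V.ι).isLeftAdjoint
  haveI : F.IsRightAdjoint := (CxOX.extZeroAdj V.ι).isRightAdjoint
  haveI : F.Additive := (Scheme.Modules.restrictAdjunction V.ι).left_adjoint_additive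
  have w' : Formal.smulMod A P t ≫ Formal.smulMod A P (t ^ (n + 1)) = 0 :=
    smulMod_pair A a t P (H24Formal.killedBy_of_iso θ (H24Formal.killedBy_modPow (Ideal.span {t}) (n + 2) _))
  have hP := (exact_smul_free A a t hnzd n r w').map F
  letI : (V : Scheme.{u}).Over (Spec (CommRingCat.of A)) :=
    ⟨V.ι ≫ ((U : Scheme.{u}) ↘ Spec (CommRingCat.of A))⟩
  let E : F.obj M ≅ F.obj P := e ≪≫ F.mapIso θ
  have hc : ∀ b : A, E.hom ≫ F.map (Formal.smulMod A P b) = F.map (Formal.smulMod A M b) ≫ E.hom := fun b => by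
    rw [restrict_map_smulMod' V.ι rfl, restrict_map_smulMod' V.ι rfl, H24Formal.smulMod_comm]
  exact ShortComplex.exact_of_iso (ShortComplex.isoMk E E E (hc t) (hc (t ^ (n + 1)))).symm hP

/-- The local cohomology of the module of a finite locally free module over `A ⧸ (t)` is finite. -/
theorem finite_HH_locFree (hnzd : t ∈ nonZeroDivisors A)
    (h₁ : Module.Finite A (LocCoh.H a 1 (A ⧸ Ideal.span {t}))) (h₂ : Module.Finite A (LocCoh.H a 2 (A ⧸ Ideal.span {t})))
    (M : (U : Scheme.{u}).Modules) (hM : Coh.IsCoh M) (hfree : Formal2.IsFinLocFreeMod (Ideal.span {t}) 1 M) (i : ℕ)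
    (hi : i ≤ 1) : Module.Finite A (Coh.HH (U : Scheme.{u}) M i) := by
  obtain ⟨N, hN, ⟨e₀⟩⟩ := @H10Coh.exists_finite_tilde_restrict (CommRingCat.of A) _ (LocCoh.puncturedOpen A a) M hM
  haveI : Module.Finite A N := hN
  obtain ⟨J, hJ, hk⟩ := exists_killer_pi a (A ⧸ Ideal.span {t ^ 1}) (by rwa [pow_one]) (by rwa [pow_one])
  have hH := finite_H_of_split a N 2 J hJ fun p hp hap => by
    let x : (U : Scheme.{u}) := ⟨⟨p, hp⟩, fun h => hap (SetLike.coe_subset_coe.1 h)⟩
    obtain ⟨V, r, hxV, ⟨e⟩⟩ := hfree x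
    obtain ⟨θ⟩ := nonempty_modPow_freeMod_iso A a t hnzd 1 r
    let F := Scheme.Modules.restrictFunctor V.ι
    let j := V.ι ≫ Scheme.Opens.ι U
    let C := Scheme.Modules.restrictFunctorComp V.ι (Scheme.Opens.ι U)
    let E : (tilde (R := CommRingCat.of A) N).restrict j ≅ (tilde (R := CommRingCat.of A) (quotFree A t 1 r)).restrict j :=
      C.app _ ≪≫ F.mapIso e₀.symm ≪≫ e ≪≫ F.mapIso θ ≪≫ (C.app _).symm
    obtain ⟨ε⟩ := exists_linearEquiv_of_restrict_iso j E (⟨x, hxV⟩ : (V : Scheme.{u}))
    haveI : Module.FinitePresentation A N := Module.finitePresentation_of_finite A N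
    haveI : Module.FinitePresentation A (quotFree A t 1 r) := Module.finitePresentation_of_finite A _
    obtain ⟨s, hs, φ, ψ, hψ⟩ := exists_split_of_stalk N (quotFree A t 1 r) _ ε
    exact ⟨quotFree A t 1 r, s, φ, ψ, hs, hψ, hk r⟩
  haveI : Module.Finite A (Coh.HH (U : Scheme.{u}) ((tilde (R := CommRingCat.of A) N).restrict (Scheme.Opens.ι U)) i) :=
    H24Punct.finite_HH A a i N hN fun j hj => hH j (by omega)
  refine Module.Finite.of_surjective (Canon.HHlin A e₀.inv i) fun y => ⟨Canon.HHlin A e₀.hom i y, ?_⟩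
  refine (H24Algz5.lin_comp_apply (A := A) _ _ i y).symm.trans ?_
  rw [e₀.hom_inv_id]
  exact H24Algz5.lin_id_apply M i y

/-- Finite locally free formal modules for a principal ideal are completions. -/
theorem exists_algebraization [IsAdicComplete (Ideal.span {t}) A] (hnzd : t ∈ nonZeroDivisors A)
    (h₁ : Module.Finite A (LocCoh.H a 1 (A ⧸ Ideal.span {t}))) (h₂ : Module.Finite A (LocCoh.H a 2 (A ⧸ Ideal.span {t})))
    (G : ℕᵒᵖ ⥤ (U : Scheme.{u}).Modules) (hG : Formal.IsCohFormal (Ideal.span {t}) G)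
    (hfree : ∀ n : ℕ, Formal2.IsFinLocFreeMod (Ideal.span {t}) (n + 1) (G.obj (op n))) :
    ∃ F : (U : Scheme.{u}).Modules, Coh.IsCoh F ∧ Nonempty (Formal.completion (Ideal.span {t}) F ≅ G) := by
  have hsplit : H24Algz5.IsSplit hG ![t] (H24Depth2.Jf_le t) := H24Depth2.isSplit_of_exact t hG fun n {T} x hx => by
    have w := smulMod_pair A a t (G.obj (op (n + 1))) (hG.2.1 (n + 1))
    exact (exact_smul_locFree A a t hnzd n _ (hfree (n + 1)) w).exact_up_to_refinements x hx
  exact H24Depth2.exists_completion_iso A t a G hG hsplit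
    (finite_HH_locFree A a t hnzd h₁ h₂ _ (hG.1 0) (hfree 0) 0 (Nat.zero_le 1))
    (finite_HH_locFree A a t hnzd h₁ h₂ _ (hG.1 0) (hfree 0) 1 le_rfl)

end Groth.Agent.H24Free
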